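import Groth.Agent.Lib.Ample.Pullback
import Groth.Prelude.Def_GrTwist

/-!
# Frames of the twisting sheaves `O(d)` given by elements of degree `d` of a ring graded by additive subgroups
-/

noncomputable section

set_option autoImplicit false
universe u

open CategoryTheory CategoryTheory.Limits AlgebraicGeometry Opposite TopologicalSpace

namespace Groth.Agent.H58VA.GrTwistOne

open Groth.Agent.Lib TensorMod TensorMod.Dual TensorMod.Gen TensorMod.LocIso Ample.GenLocus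

variable {A σ : Type u} [CommRing A] [SetLike σ A] [AddSubgroupClass σ A] {𝒜 : ℕ → σ} [GradedRing 𝒜]

/-- `g / 1` in the localization at a point. -/
abbrev frac1 (x : ProjectiveSpectrum 𝒜) (g : A) : GrTwist.Loc 𝒜 x :=
  Localization.mk g ⟨1, fun h => x.isPrime.ne_top ((Ideal.eq_top_iff_one _).mpr h)⟩

theorem isUnit_frac1 (x : ProjectiveSpectrum 𝒜) {g : A} (hg : g ∉ x.asHomogeneousIdeal) :
    IsUnit (frac1 x g) :=
  IsUnit.of_mul_eq_one (Localization.mk 1 ⟨g, hg⟩) (by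
    rw [Localization.mk_mul, ← Localization.mk_one, Localization.mk_eq_mk_iff,
      Localization.r_iff_exists]
    exact ⟨1, by simp⟩)

theorem exists_val_mul_frac1 (x : ProjectiveSpectrum 𝒜) {d : ℕ} {g a b : A} {j : ℕ} (hg : g ∈ 𝒜 d)
    (ha : a ∈ 𝒜 (j + d)) (hb : b ∈ 𝒜 j) (hbx : b ∉ x.asHomogeneousIdeal)
    (hgx : g ∉ x.asHomogeneousIdeal) :
    (HomogeneousLocalization.mk ⟨j + d, ⟨a, ha⟩, ⟨b * g, SetLike.mul_mem_graded hb hg⟩,
      fun h => (x.isPrime.mem_or_mem h).elim hbx hgx⟩ : GrTwist.A0 𝒜 x).val * frac1 x g =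
      Localization.mk a ⟨b, hbx⟩ := by
  rw [HomogeneousLocalization.val_mk, Localization.mk_mul, Localization.mk_eq_mk_iff,
    Localization.r_iff_exists]
  exact ⟨1, by simp only [Submonoid.coe_mul, OneMemClass.coe_one, mul_one, one_mul]; ring⟩

theorem notMem_of_eq_mul_frac1 (x : ProjectiveSpectrum 𝒜) {g g' : A} (c : GrTwist.A0 𝒜 x)
    (h : frac1 x g' = c.val * frac1 x g) (hg' : g' ∉ x.asHomogeneousIdeal) :
    g ∉ x.asHomogeneousIdeal := by
  intro hgx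
  obtain ⟨p, rfl⟩ := HomogeneousLocalization.mk_surjective c
  rw [HomogeneousLocalization.val_mk, Localization.mk_mul, Localization.mk_eq_mk_iff,
    Localization.r_iff_exists] at h
  obtain ⟨w, hw⟩ := h
  simp only [Submonoid.coe_mul, mul_one, one_mul] at hw
  have : (w : A) * ((p.den : A) * g') ∈ x.asHomogeneousIdeal.toIdeal := by
    rw [hw]
    exact Ideal.mul_mem_left _ _ (Ideal.mul_mem_left _ _ hgx)
  exact (x.isPrime.mem_or_mem this).elim w.2 fun h => (x.isPrime.mem_or_mem h).elim p.den_mem hg'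

/-- `g / 1` as a global section of `O(d)`. -/
abbrev oneSec {d : ℕ} {g : A} (hg : g ∈ 𝒜 d) : Γ(GrTwist.twist 𝒜 (d : ℤ), ⊤) :=
  GrTwist.globalOf 𝒜 (⟨g, hg⟩ : 𝒜 d)

theorem val_smul_oneSec {d : ℕ} {g : A} (hg : g ∈ 𝒜 d) {V : (Proj 𝒜).Opens} (a : Γ(Proj 𝒜, V)) (y : V) :
    GrTwist.val (V := V) (a • rs (GrTwist.twist 𝒜 (d : ℤ)) le_top (oneSec hg)) y =
      ((a : GrTwist.O (𝒜 := 𝒜) (op V)).1 y).val * frac1 y.1 g :=
  GrTwist.coe_smul_val _ y.1 _ _

theorem isGen_oneSec {d : ℕ} {g : A} (hg : g ∈ 𝒜 d) :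
    IsGen (GrTwist.twist 𝒜 (d : ℤ)) (Proj.basicOpen 𝒜 g)
      (rs (GrTwist.twist 𝒜 (d : ℤ)) le_top (oneSec hg)) := by
  classical
  intro V hV
  simp only [rs_rs]
  have hgy : ∀ y : V, g ∉ y.1.asHomogeneousIdeal := fun y => hV y.2
  constructor
  · intro a b h
    refine Subtype.ext (funext fun y => HomogeneousLocalization.val_injective _ ?_)
    have h1 : GrTwist.val (V := V) (a • rs (GrTwist.twist 𝒜 (d : ℤ)) le_top (oneSec hg)) y =
        GrTwist.val (V := V) (b • rs (GrTwist.twist 𝒜 (d : ℤ)) le_top (oneSec hg)) y :=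
      congrArg (fun t => GrTwist.val (V := V) t y) h
    replace h1 := ((val_smul_oneSec hg a y).symm.trans h1).trans (val_smul_oneSec hg b y)
    exact (isUnit_frac1 y.1 (hgy y)).mul_left_injective h1
  · intro s
    have key : ∀ y : V, ∃ c : GrTwist.A0 𝒜 y.1, c.val * frac1 y.1 g = GrTwist.val (V := V) s y := by
      intro y
      obtain ⟨W, mW, iW, i, j, a, b, hb, hij, hw⟩ := (s : GrTwist.sectN (𝒜 := 𝒜) _ (op V)).2 y
      have hamem : (a : A) ∈ 𝒜 (j + d) := by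
        rcases hij with h | h
        · have e : i = j + d := by omega
          exact e ▸ a.2
        · rw [h]; exact zero_mem _
      exact ⟨_, (exists_val_mul_frac1 y.1 hg hamem b.2 (hb ⟨y.1, mW⟩) (hgy y)).trans
        (hw ⟨y.1, mW⟩).symm⟩
    choose c hc using key
    refine ⟨(⟨c, fun y => ?_⟩ : GrTwist.O (𝒜 := 𝒜) (op V)), ?_⟩
    · obtain ⟨W, mW, iW, i, j, a, b, hb, hij, hw⟩ := (s : GrTwist.sectN (𝒜 := 𝒜) _ (op V)).2 y
      have hamem : (a : A) ∈ 𝒜 (j + d) := by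
        rcases hij with h | h
        · have e : i = j + d := by omega
          exact e ▸ a.2
        · rw [h]; exact zero_mem _
      refine ⟨W, mW, iW, j + d, ⟨a, hamem⟩, ⟨_, SetLike.mul_mem_graded b.2 hg⟩,
        fun z h => (z.1.isPrime.mem_or_mem h).elim (hb z) (hgy ⟨z.1, iW.le z.2⟩), fun z => ?_⟩
      refine HomogeneousLocalization.val_injective _
        ((isUnit_frac1 z.1 (hgy ⟨z.1, iW.le z.2⟩)).mul_left_injective ?_)
      exact ((hc ⟨z.1, iW.le z.2⟩).trans (hw z)).trans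
        (exists_val_mul_frac1 z.1 hg hamem b.2 (hb z) (hgy ⟨z.1, iW.le z.2⟩)).symm
    · refine Subtype.ext (funext fun y => Subtype.ext ?_)
      exact (val_smul_oneSec hg _ y).trans (hc y)

variable {d : ℕ} (hcov : ∀ x : ProjectiveSpectrum 𝒜, ∃ g ∈ 𝒜 d, g ∉ x.asHomogeneousIdeal)

include hcov in
theorem isInvertible_twist : PicF.IsInvertible (GrTwist.twist 𝒜 (d : ℤ)) := fun x => by
  obtain ⟨g, hg, hgx⟩ := hcov x
  obtain ⟨s, hs⟩ := exists_hom_of_sec (oneSec hg)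
  have h := (isIso_restrict_iff s (Proj.basicOpen 𝒜 g)).2 (by
    rw [← rs_sv s (le_top : Proj.basicOpen 𝒜 g ≤ ⊤), hs]
    exact isGen_oneSec hg)
  exact ⟨Proj.basicOpen 𝒜 g, hgx,
    ⟨(asIso ((rU (Proj.basicOpen 𝒜 g)).map s)).symm ≪≫ Scheme.Modules.restrictUnitIso _⟩⟩

/-- The locus of `g / 1` is `D₊(g)`. -/
theorem genLocus_oneSec {g : A} (hg : g ∈ 𝒜 d)
    (s : Coh.structureModule (Proj 𝒜) ⟶ GrTwist.twist 𝒜 (d : ℤ)) (hs : sv s ⊤ = oneSec hg)
    (hcov : ∀ x : ProjectiveSpectrum 𝒜, ∃ g ∈ 𝒜 d, g ∉ x.asHomogeneousIdeal) :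
    CohB1.genLocus _ s = Proj.basicOpen 𝒜 g := by
  refine le_antisymm (fun x hx => ?_) (le_genLocus ?_)
  · obtain ⟨g', hg', hx'⟩ := hcov x
    obtain ⟨W, hxW, hW⟩ := (mem_genLocus_iff s).1 hx
    obtain ⟨a, ha⟩ := exists_coord hW (rs (GrTwist.twist 𝒜 (d : ℤ)) le_top (oneSec hg'))
    rw [← rs_sv s (le_top : W ≤ ⊤), hs] at ha
    have h1 : frac1 x g' = ((a : GrTwist.O (𝒜 := 𝒜) (op W)).1 ⟨x, hxW⟩).val * frac1 x g :=
      (congrArg (fun t => GrTwist.val (V := W) t ⟨x, hxW⟩) ha).trans (val_smul_oneSec hg a ⟨x, hxW⟩)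
    exact notMem_of_eq_mul_frac1 x _ h1 hx'
  · rw [← rs_sv s (le_top : Proj.basicOpen 𝒜 g ≤ ⊤), hs]
    exact isGen_oneSec hg

include hcov in
theorem affineAt_twist (hd : 0 < d) (x : Proj 𝒜) : Ample.Pow.AffineAt (GrTwist.twist 𝒜 (d : ℤ)) x := by
  obtain ⟨g, hg, hgx⟩ := hcov x
  obtain ⟨s, hs⟩ := exists_hom_of_sec (oneSec hg)
  have h := genLocus_oneSec hg s hs hcov
  refine .mk one_pos (Ample.Pow.powOne _).symm s ?_ ?_
  · rw [h]; exact hgx
  · rw [h]; exact Proj.isAffineOpen_basicOpen 𝒜 g hg hd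

end Groth.Agent.H58VA.GrTwistOne
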