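import Groth.Agent.H34.CanonFam
import Groth.Agent.H56.DimBaseChange
import Groth.Agent.S1611
import Groth.Agent.Lib.DepthTwist.Embed

/-!
# Very ampleness on a smooth proper geometrically connected curve over a field
-/

set_option autoImplicit false
set_option linter.style.haveILetI false
universe u

open CategoryTheory CategoryTheory.Limits AlgebraicGeometry TopologicalSpace

noncomputable section

namespace Groth.Agent.H58VA.Fibre

open Groth.Agent Groth.Agent.Lib

variable (k : Type u) [Field k] (X : Scheme.{u}) [X.Over (Spec (CommRingCat.of k))]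
  [IsProper (X ↘ Spec (CommRingCat.of k))] [Smooth (X ↘ Spec (CommRingCat.of k))]
  [GeometricallyConnected (X ↘ Spec (CommRingCat.of k))]

/-- A smooth proper geometrically connected curve is geometrically integral. -/
theorem geometricallyIntegral (hdim : topologicalKrullDim X = 1) :
    GeometricallyIntegral (X ↘ Spec (CommRingCat.of k)) := by
  refine ⟨fun K _ y Z fst snd h => ?_⟩
  letI : Z.Over (Spec (CommRingCat.of K)) := ⟨snd⟩
  haveI : IsProper (Z ↘ Spec (CommRingCat.of K)) :=
    MorphismProperty.of_isPullback (P := @IsProper) h inferInstance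
  haveI : Smooth (Z ↘ Spec (CommRingCat.of K)) :=
    MorphismProperty.of_isPullback (P := @Smooth) h inferInstance
  haveI : GeometricallyConnected (Z ↘ Spec (CommRingCat.of K)) :=
    MorphismProperty.of_isPullback (P := @GeometricallyConnected) h inferInstance
  haveI : Nonempty (Spec (CommRingCat.of K)) := inferInstanceAs (Nonempty (PrimeSpectrum K))
  haveI : Subsingleton (Spec (CommRingCat.of K)) := inferInstanceAs (Subsingleton (PrimeSpectrum K))
  haveI : ConnectedSpace Z :=
    GeometricallyConnected.connectedSpace_of_subsingleton (Z ↘ Spec (CommRingCat.of K))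
  exact CurveBundle.SmoothField.isIntegral K
    ((H56.DimBaseChange.topologicalKrullDim_baseChange y (X ↘ Spec (CommRingCat.of k)) snd fst h).trans hdim).le

/-- Degree at least `2 g + 1` is very ample, in the projective space form. -/
theorem veryAmplePn (hdim : topologicalKrullDim X = 1)
    (h0 : Module.finrank k (Coh.HH X (Coh.structureModule X) 0) = 1) (L : X.Modules) (hL : PicF.IsInvertible L)
    (hdeg : 2 * (Curv2.genus k X : ℤ) + 1 ≤ Curv2.deg k X L 1) :
    RelAmple.IsRelVeryAmplePn (X ↘ Spec (CommRingCat.of k)) L := by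
  haveI := geometricallyIntegral k X hdim
  obtain ⟨n, i, hi, hit, ⟨τ⟩⟩ := Groth.Agent.S1611.result k X hdim h0 L hL hdeg
  let o := ProjSpace.BaseChange.overSpecIso n k
  let φ := ProjSpace.BaseChange.projMap n (ProjSpace.BaseChange.ulz k)
  obtain ⟨eO⟩ := ProperFin.ProjFacts.nonempty_pullback_O n (ULift.{u} ℤ) k
    (ProjSpace.BaseChange.ulz k) 1
  refine ⟨n, i ≫ o.inv, inferInstance, ?_, ⟨?_⟩⟩
  · refine (Category.assoc _ _ _).trans (Eq.trans ?_ hit)
    exact congrArg (i ≫ ·) (ProjSpace.BaseChange.overSpecIso_inv_toBase n k)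
  let T := Twist.twistProjSpace n (ULift.{u} ℤ) 1
  exact τ.symm ≪≫ (Scheme.Modules.pullback i).mapIso eO.symm ≪≫
    (Scheme.Modules.pullbackComp i φ).app T ≪≫
    (Scheme.Modules.pullbackCongr (show i ≫ φ = (i ≫ o.inv) ≫ pullback.fst _ _ by
      rw [← ProjSpace.BaseChange.overSpecIso_hom_projMap n k, Category.assoc, Iso.inv_hom_id_assoc])).app T ≪≫
    ((Scheme.Modules.pullbackComp (i ≫ o.inv) _).app T).symm

end Groth.Agent.H58VA.Fibre
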