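import Groth.Agent.H58VA.Main
import Groth.Agent.H58VA.Fibre

/-!
# Powers of the relative dualizing sheaf of a family of smooth curves
-/

set_option autoImplicit false
set_option linter.style.haveILetI false
universe u

open CategoryTheory CategoryTheory.Limits AlgebraicGeometry TopologicalSpace

noncomputable section

namespace Groth.Agent.H58VA.Omega

open Groth.Agent Groth.Agent.Lib

attribute [local instance] H34.CanonFam.fibOver

variable {C S : Scheme.{u}} (f : C ⟶ S) [IsProper f] [Smooth f] [GeometricallyConnected f]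
  (hdim : ∀ s : S, topologicalKrullDim ↥(f.fiber s) = 1)

include hdim

/-- Degree at least `2 g + 1` on a fibre. -/
theorem fibre_of_deg (L : C.Modules) (hL : PicF.IsInvertible L) (s : S)
    (hdeg : 2 * (Curv2.genus (S.residueField s) (f.fiber s) : ℤ) + 1 ≤
      Curv2.deg (S.residueField s) (f.fiber s) (CohIII.fiberMod f L s) 1) :
    RelAmple.IsRelVeryAmplePn (f.fiberToSpecResidueField s) (CohIII.fiberMod f L s) ∧
      CohIII.fiberRank f L 1 s = 0 := by
  haveI := H34.CanonFam.isIntegral f hdim s
  have hinv : PicF.IsInvertible (CohIII.fiberMod f L s) := PicLoc.isInvertible_pullback _ hL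
  have h0 := H34.CanonFam.h0 f hdim s
  refine ⟨Fibre.veryAmplePn (S.residueField s) (f.fiber s) (hdim s) h0 _ hinv hdeg, ?_⟩
  haveI := Curves.Clifford.subsingleton_one_of_deg (S.residueField s) (hdim s).le h0 hinv (by omega)
  exact Module.finrank_zero_of_subsingleton

variable {g : ℕ} (hgen : ∀ s, Curv2.genus (S.residueField s) (f.fiber s) = g)

include hgen

theorem deg_pow (hg : 2 ≤ g) {n : ℕ} (hn : 3 ≤ n) (s : S) :
    2 * (Curv2.genus (S.residueField s) (f.fiber s) : ℤ) + 1 ≤
      Curv2.deg (S.residueField s) (f.fiber s)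
        (CohIII.fiberMod f (CohB1.tensorPow (Omega.sheaf f) n) s) 1 := by
  haveI := H34.CanonFam.isIntegral f hdim s
  obtain ⟨e⟩ := H34.CanonFam.nonempty_fibre_pow f n s
  have hω := CurveFF.SmoothBC.isInvertible (k := S.residueField s) (X := f.fiber s) (hdim s)
  have h0 := H34.CanonFam.h0 f hdim s
  obtain ⟨-, hd⟩ := CurveFF.SmoothBC.omega_facts (k := S.residueField s) (X := f.fiber s) (hdim s) h0
  have hdn := SurfInt.CurvePos.deg_tensorPow (k := S.residueField s) (hdim s).le hω n
  rw [hd, hgen s] at hdn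
  rw [Curves.Euler.deg_eq_of_iso e, hdn, hgen s]
  have h1 : (1 : ℤ) ≤ (g : ℤ) - 1 := by omega
  have h2 : (3 : ℤ) ≤ n := by omega
  nlinarith

theorem isRelVeryAmple_pow (hg : 2 ≤ g) {n : ℕ} (hn : 3 ≤ n) :
    RelProj.IsRelVeryAmple f (CohB1.tensorPow (Omega.sheaf f) n) := by
  have hL := TensorMod.Invertible.isInvertible_tensorPow (H34.CanonFam.isInvertible_omega f hdim) n
  have h := fun s => fibre_of_deg f hdim _ hL s (deg_pow f hdim hgen hg hn s)
  exact Main.isRelVeryAmple f _ hL (fun s => (h s).1) fun s => (h s).2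

theorem isProjective (hg : 2 ≤ g) : RelProj.IsProjective f := by
  have hL := TensorMod.Invertible.isInvertible_tensorPow (H34.CanonFam.isInvertible_omega f hdim) 3
  have h := fun s => fibre_of_deg f hdim _ hL s (deg_pow f hdim hgen hg le_rfl s)
  refine Main.isProjective f _ hL (fun s => (h s).1) (fun s => (h s).2) ?_
  exact TensorMod.LocFree.of_rank (H34.CanonFam.push_pow f hdim hg (by omega : 2 ≤ 3) hgen).1

end Groth.Agent.H58VA.Omega
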