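import Groth.Agent.H81.RelProj.Map
import Mathlib.AlgebraicGeometry.Morphisms.IsIso

/-!
# Maps of Proj's depend only on the positive degrees
-/

set_option autoImplicit false
universe u

open CategoryTheory Limits AlgebraicGeometry Opposite TopologicalSpace HomogeneousLocalization
open scoped HomogeneousIdeal

namespace Groth.Agent.H58VA.AwayPos

noncomputable section

section

variable {A B σ τ : Type u} [CommRing A] [SetLike σ A] [AddSubgroupClass σ A]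
  [CommRing B] [SetLike τ B] [AddSubgroupClass τ B]
  {𝒜 : ℕ → σ} {ℬ : ℕ → τ} [GradedRing 𝒜] [GradedRing ℬ]

theorem awayMap_surjective (φ : 𝒜 →+*ᵍ ℬ) (hsurj : ∀ n, 0 < n → ∀ b ∈ ℬ n, ∃ a ∈ 𝒜 n, φ a = b)
    {i : ℕ} (hi : 0 < i) {s : A} (hs : s ∈ 𝒜 i) : Function.Surjective (Away.map φ s) := by
  intro z
  obtain ⟨d, b, hb, rfl⟩ := Away.mk_surjective ℬ (φ.map_mem hs) z
  have hbs : b * φ s ∈ ℬ ((d + 1) • i) := by
    rw [succ_nsmul]; exact SetLike.mul_mem_graded hb (φ.map_mem hs)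
  obtain ⟨a, ha, e⟩ := hsurj _ (Nat.mul_pos d.succ_pos hi) _ hbs
  refine ⟨Away.mk 𝒜 hs (d + 1) a ha, ?_⟩
  apply val_injective
  rw [Away.map_mk, Away.val_mk, Away.val_mk, Localization.mk_eq_mk_iff, Localization.r_iff_exists]
  refine ⟨1, ?_⟩
  simp only [OneMemClass.coe_one, one_mul, e]
  change φ s ^ d * (b * φ s) = φ s ^ (d + 1) * b
  ring

theorem awayMap_injective (φ : 𝒜 →+*ᵍ ℬ) (hinj : ∀ n, 0 < n → ∀ a ∈ 𝒜 n, φ a = 0 → a = 0)
    {i : ℕ} (hi : 0 < i) {s : A} (hs : s ∈ 𝒜 i) : Function.Injective (Away.map φ s) := by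
  rw [injective_iff_map_eq_zero]
  intro z hz
  obtain ⟨d, a, ha, rfl⟩ := Away.mk_surjective 𝒜 hs z
  have h0 := congrArg HomogeneousLocalization.val hz
  rw [Away.map_mk, Away.val_mk, val_zero, Localization.mk_eq_mk', IsLocalization.mk'_eq_zero_iff] at h0
  obtain ⟨⟨_, m, rfl⟩, hm⟩ := h0
  change φ s ^ m * φ a = 0 at hm
  have hmem : s ^ (m + 1) * a ∈ 𝒜 ((m + 1) • i + d • i) :=
    SetLike.mul_mem_graded (SetLike.pow_mem_graded _ hs) ha
  have h1 : s ^ (m + 1) * a = 0 := by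
    refine hinj _ (Nat.add_pos_left (Nat.mul_pos m.succ_pos hi) _) _ hmem ?_
    rw [map_mul, map_pow, pow_succ', mul_assoc, hm, mul_zero]
  apply val_injective
  rw [Away.val_mk, val_zero, Localization.mk_eq_mk', IsLocalization.mk'_eq_zero_iff]
  exact ⟨⟨_, m + 1, rfl⟩, h1⟩

theorem isClosedImmersion_map (φ : 𝒜 →+*ᵍ ℬ) (hsurj : ∀ n, 0 < n → ∀ b ∈ ℬ n, ∃ a ∈ 𝒜 n, φ a = b)
    (hφ : ℬ₊ ≤ 𝒜₊.map φ) : IsClosedImmersion (Proj.map φ hφ) := by
  refine IsZariskiLocalAtTarget.of_iSup_eq_top (P := @IsClosedImmersion)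
    (fun p : Σ d : ℕ, {a : A // 0 < d ∧ a ∈ 𝒜 d} => Proj.basicOpen 𝒜 p.2.1) ?_ fun ⟨d, a, hd, ha⟩ => ?_
  · refine Proj.iSup_basicOpen_eq_top 𝒜 _ ?_
    rw [HomogeneousIdeal.toIdeal_irrelevant_le]
    exact fun i hi x hx => Ideal.subset_span ⟨⟨i, x, hi, hx⟩, rfl⟩
  · refine Groth.Agent.Lib.ProjMor.Pieces.isClosedImmersion_restrict _ (Proj.isAffineOpen_basicOpen 𝒜 a ha hd)
      (Proj.isAffineOpen_basicOpen ℬ (φ a) (φ.map_mem ha) hd) (Proj.map_preimage_basicOpen φ hφ a) ?_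
    intro z
    have hiso : IsIso (Proj.awayToSection ℬ (φ a)) :=
      (Proj.basicOpenIsoAway ℬ (φ a) (φ.map_mem ha) hd).isIso_hom
    obtain ⟨w, rfl⟩ := (ConcreteCategory.bijective_of_isIso (Proj.awayToSection ℬ (φ a))).2 z
    obtain ⟨v, rfl⟩ := awayMap_surjective φ hsurj hd ha w
    exact ⟨Proj.awayToSection 𝒜 a v,
      DFunLike.congr_fun (congrArg CommRingCat.Hom.hom (Proj.awayToSection_comp_appLE φ hφ ha)) v⟩

theorem isIso_restrict {X P : Scheme.{u}} (j : X ⟶ P) {D : P.Opens} {U : X.Opens} (hD : IsAffineOpen D)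
    (hU : IsAffineOpen U) (hjD : j ⁻¹ᵁ D = U) (h : Function.Bijective (j.appLE D U hjD.ge)) :
    IsIso (j ∣_ D) := by
  subst hjD
  have : IsAffine (D : Scheme.{u}) := hD
  have : IsAffine (j ⁻¹ᵁ D : Scheme.{u}) := hU
  have e : (j ∣_ D).appTop = D.topIso.hom ≫ j.appLE D (j ⁻¹ᵁ D) le_rfl ≫ (j ⁻¹ᵁ D).topIso.inv := by
    rw [← Scheme.Hom.resLE_eq_morphismRestrict]
    exact Scheme.Hom.resLE_app_top _ _
  have : IsIso (j.appLE D (j ⁻¹ᵁ D) le_rfl) := (ConcreteCategory.isIso_iff_bijective _).2 h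
  have : IsIso (j ∣_ D).appTop := by rw [e]; infer_instance
  exact (MorphismProperty.arrow_mk_iso_iff (MorphismProperty.isomorphisms Scheme.{u})
    (arrowIsoSpecΓOfIsAffine (j ∣_ D))).mpr (inferInstanceAs (IsIso (Spec.map (j ∣_ D).appTop)))

theorem isIso_map (φ : 𝒜 →+*ᵍ ℬ) (hsurj : ∀ n, 0 < n → ∀ b ∈ ℬ n, ∃ a ∈ 𝒜 n, φ a = b)
    (hinj : ∀ n, 0 < n → ∀ a ∈ 𝒜 n, φ a = 0 → a = 0) (hφ : ℬ₊ ≤ 𝒜₊.map φ) :
    IsIso (Proj.map φ hφ) := by
  change MorphismProperty.isomorphisms Scheme (Proj.map φ hφ)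
  refine IsZariskiLocalAtTarget.of_iSup_eq_top (P := MorphismProperty.isomorphisms Scheme)
    (fun p : Σ d : ℕ, {a : A // 0 < d ∧ a ∈ 𝒜 d} => Proj.basicOpen 𝒜 p.2.1) ?_ fun ⟨d, a, hd, ha⟩ => ?_
  · refine Proj.iSup_basicOpen_eq_top 𝒜 _ ?_
    rw [HomogeneousIdeal.toIdeal_irrelevant_le]
    exact fun i hi x hx => Ideal.subset_span ⟨⟨i, x, hi, hx⟩, rfl⟩
  · refine isIso_restrict _ (Proj.isAffineOpen_basicOpen 𝒜 a ha hd)
      (Proj.isAffineOpen_basicOpen ℬ (φ a) (φ.map_mem ha) hd) (Proj.map_preimage_basicOpen φ hφ a) ?_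
    have hA : IsIso (Proj.awayToSection 𝒜 a) := (Proj.basicOpenIsoAway 𝒜 a ha hd).isIso_hom
    have hB : IsIso (Proj.awayToSection ℬ (φ a)) :=
      (Proj.basicOpenIsoAway ℬ (φ a) (φ.map_mem ha) hd).isIso_hom
    have e := congrArg DFunLike.coe
      (congrArg CommRingCat.Hom.hom (Proj.awayToSection_comp_appLE φ hφ ha))
    simp only [CommRingCat.hom_comp, RingHom.coe_comp] at e
    rw [← Function.Bijective.of_comp_iff _ (ConcreteCategory.bijective_of_isIso (Proj.awayToSection 𝒜 a))]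
    exact e ▸ (ConcreteCategory.bijective_of_isIso (Proj.awayToSection ℬ (φ a))).comp
      ⟨awayMap_injective φ hinj hd ha, awayMap_surjective φ hsurj hd ha⟩

end

variable {Y PA PB : Scheme.{u}} {𝒢 ℋ : RelProj.QCGrAlg Y}
  {pA : PA ⟶ Y} {pB : PB ⟶ Y}
  {chartA : ∀ (U : Y.Opens) (hU : IsAffineOpen U), (((pA ⁻¹ᵁ U : PA.Opens) : Scheme.{u}) ≅ Proj (𝒢.deg U hU))}
  {chartB : ∀ (U : Y.Opens) (hU : IsAffineOpen U), (((pB ⁻¹ᵁ U : PB.Opens) : Scheme.{u}) ≅ Proj (ℋ.deg U hU))}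

/-- A property of relative Proj maps that can be tested on the charts. -/
theorem relProjMap_of_charts (Q : MorphismProperty Scheme.{u}) [IsZariskiLocalAtTarget Q]
    (φ : 𝒢.toQCAlg ⟶ ℋ.toQCAlg) (hφ : RelProj.IsGradedHom φ)
    (hirr : ∀ (U : Y.Opens) (hU : IsAffineOpen U),
      (ℋ.deg U hU)₊ ≤ ((𝒢.deg U hU)₊).map (RelProj.gradedHomAt φ hφ U hU))
    (hA : RelProj.IsRelProj 𝒢 pA chartA) (hB : RelProj.IsRelProj ℋ pB chartB)
    (h : PB ⟶ PA) (hh : RelProj.IsRelProjMap φ hφ hirr chartA chartB h)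
    (H : ∀ (U : Y.Opens) (hU : IsAffineOpen U), Q (Proj.map (RelProj.gradedHomAt φ hφ U hU) (hirr U hU))) :
    Q h := by
  have hover := (H81.RelProj.Map.existsUnique φ hφ hirr hA hB).2 h hh
  refine IsZariskiLocalAtTarget.of_iSup_eq_top (P := Q) (fun U : Y.affineOpens => pA ⁻¹ᵁ U.1)
    (Groth.Agent.Lib.RelProjBasics.Glue.iSup_preimage pA) fun U => ?_
  obtain ⟨U, hU'⟩ := U
  have hU : IsAffineOpen U := hU'
  have hpre : h ⁻¹ᵁ (pA ⁻¹ᵁ U) = pB ⁻¹ᵁ U := by rw [← Scheme.Hom.comp_preimage, hover]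
  have e : h ∣_ (pA ⁻¹ᵁ U) = (PB.isoOfEq hpre).hom ≫ (chartB U hU).hom ≫
      Proj.map (RelProj.gradedHomAt φ hφ U hU) (hirr U hU) ≫ (chartA U hU).inv := by
    rw [← cancel_mono (pA ⁻¹ᵁ U).ι, morphismRestrict_ι]
    simp only [Category.assoc]
    rw [← hh U hU, Scheme.isoOfEq_hom_ι_assoc]
  rw [e, MorphismProperty.cancel_left_of_respectsIso Q, MorphismProperty.cancel_left_of_respectsIso Q,
    MorphismProperty.cancel_right_of_respectsIso Q]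
  exact H U hU

end

end Groth.Agent.H58VA.AwayPos
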