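import Groth.Agent.Lib.ExchangeFP29.MainBC
import Groth.Agent.Lib.Exchange.VeryAmpleNhd

/-!
# Lifting sections from a fibre over an arbitrary base
-/

set_option autoImplicit false
set_option linter.style.haveILetI false
set_option maxHeartbeats 1000000
universe u

open CategoryTheory CategoryTheory.Limits AlgebraicGeometry Opposite TopologicalSpace
open scoped TensorProduct

namespace Groth.Agent.H58VA.Lift

open Groth.Agent Groth.Agent.Lib Groth.Agent.Lib.ExchangeFP29 _root_.ZarCoh.Exchange
open Groth.Agent.Lib.CechRes.Sec (rho secA toSec ofSec)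

noncomputable section

variable {A : Type u} [CommRing A] {X X' : Scheme.{u}} [X.Over (Spec (CommRingCat.of A))]
  [QuasiCompact (X ↘ Spec (CommRingCat.of A))] [IsSeparated (X ↘ Spec (CommRingCat.of A))]
  (x : PrimeSpectrum A) [X'.Over (Spec (CommRingCat.of x.asIdeal.ResidueField))] {g' : X' ⟶ X}
  (hsq : IsPullback g' (X' ↘ Spec (CommRingCat.of x.asIdeal.ResidueField))
    (X ↘ Spec (CommRingCat.of A))
    (Spec.map (CommRingCat.ofHom (algebraMap A x.asIdeal.ResidueField))))
  (F : X.Modules) [F.IsQuasicoherent]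

local notation "pX" => (X ↘ Spec (CommRingCat.of A))
local notation "pX'" => (X' ↘ Spec (CommRingCat.of x.asIdeal.ResidueField))

omit [QuasiCompact pX] [IsSeparated pX] in
include hsq in
theorem app_toGlobal (b : A) :
    (show Γ(X', ⊤) from g'.app ⊤ (Coh.toGlobal pX b)) =
      Coh.toGlobal pX' (algebraMap A x.asIdeal.ResidueField b) := by
  refine Eq.trans ?_ (LocalRep.toGlobal_comp (CommRingCat.ofHom (algebraMap A x.asIdeal.ResidueField)) pX' b)
  rw [← hsq.w]
  rfl

include hsq in
/-- Sections on the fibre lift up to a function not vanishing at the point, if `H⁰` is right exact. -/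
theorem exists_lift (hfl : FlatMod.IsFlatOver pX F)
    (hex : (CohIII.tensorAFunctor A F ⋙ CohIII.HAb X 0).PreservesEpimorphisms)
    (t : ProjUP.Γm ((Scheme.Modules.pullback g').obj F)) :
    ∃ a, a ∉ x.asIdeal ∧ ∃ s : ProjUP.Γm F, ProjUP.pullSec g' F s =
      (show Γ(X', ⊤) from Coh.toGlobal pX' (algebraMap A x.asIdeal.ResidueField a)) • t := by
  have hb := BC0.bijective_gammaMap hsq F
    (fun W hW => CechRes.Flat.secFlat_of_isFlatOver pX F hfl W hW) hex
  obtain ⟨z, hz⟩ := hb.2 (toSec pX' t)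
  obtain ⟨a, ha, m, hm⟩ := ZarCoh.Exchange.Span.exists_smul_eq_tmul (N := (secA pX ⊤).obj F)
    x.asIdeal (TensorProduct.comm A _ _ z)
  refine ⟨a, ha, ofSec pX m, ?_⟩
  have hm' : a • z = (1 : x.asIdeal.ResidueField) ⊗ₜ[A] m := by
    apply (TensorProduct.comm A x.asIdeal.ResidueField ((secA pX ⊤).obj F)).injective
    rw [map_smul, TensorProduct.comm_tmul]
    exact hm
  have key : ∀ w : x.asIdeal.ResidueField ⊗[A] ((secA pX ⊤).obj F : Type u),
      BC0.gammaMap hsq F (a • w) = algebraMap A x.asIdeal.ResidueField a • BC0.gammaMap hsq F w := by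
    intro w
    induction w using TensorProduct.induction_on with
    | zero => simp only [smul_zero, map_zero]
    | tmul b n =>
      rw [TensorProduct.smul_tmul', BC0.gammaMap_tmul, BC0.gammaMap_tmul, smul_smul, Algebra.smul_def]
    | add b c hb hc => simp only [smul_add, map_add, hb, hc]
  have h1 := key z
  rw [hz, hm', BC0.gammaMap_tmul, one_smul] at h1
  have h2 := congrArg (ofSec pX') h1
  rw [CechRes.Sec.ofSec_smul] at h2
  refine Eq.trans (Eq.trans ?_ h2) ?_
  · exact (TensorMod.Dual.rs_self ((Scheme.Modules.pullback g').obj F) le_rfl _).symm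
  · refine congrArg (· • t) ?_
    simp only [rho, Coh.toGlobal, CommRingCat.hom_comp, RingHom.comp_apply, Scheme.Hom.appTop, Scheme.Hom.app_eq_appLE]
    rfl

include hsq in
/-- Finitely many sections on the fibre lift simultaneously, up to an automorphism. -/
theorem exists_lift_family (hfl : FlatMod.IsFlatOver pX F)
    (hex : (CohIII.tensorAFunctor A F ⋙ CohIII.HAb X 0).PreservesEpimorphisms)
    {ι : Type} [Fintype ι] (T₀ : ι → ProjUP.Γm ((Scheme.Modules.pullback g').obj F)) :
    ∃ (σ : (Scheme.Modules.pullback g').obj F ≅ (Scheme.Modules.pullback g').obj F)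
      (t : ι → ProjUP.Γm F), ∀ m, σ.hom.app ⊤ (ProjUP.pullSec g' F (t m)) = T₀ m := by
  classical
  have hlift := fun m => exists_lift x hsq F hfl hex (T₀ m)
  choose a ha s hs using hlift
  let c : Γ(X', ⊤) := Coh.toGlobal pX' (algebraMap A x.asIdeal.ResidueField (∏ m, a m))
  have hc : IsUnit c := by
    refine IsUnit.map _ (isUnit_iff_ne_zero.2 ?_)
    rw [Ne, Ideal.algebraMap_residueField_eq_zero]
    exact fun h => by
      obtain ⟨m, -, hm⟩ := (Ideal.IsPrime.prod_mem_iff).1 h
      exact ha m hm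
  obtain ⟨σ, hσ⟩ := VeryAmpleNear.exists_scale _ c hc
  refine ⟨σ, fun m => (show Γ(X, ⊤) from Coh.toGlobal pX (∏ j ∈ Finset.univ.erase m, a j)) • s m, fun m => ?_⟩
  refine Eq.trans (congrArg (σ.hom.app ⊤) ?_) (hσ (T₀ m))
  refine (VeryAmpleNear.pullSec_smul g' F _ (s m)).trans ?_
  rw [hs, app_toGlobal x hsq]
  refine Eq.trans (smul_smul _ _ _) ?_
  refine congrArg (· • T₀ m) ?_
  show (Coh.toGlobal pX') _ * (Coh.toGlobal pX') _ = Coh.toGlobal pX' _
  rw [← map_mul, ← map_mul, Finset.prod_erase_mul _ _ (Finset.mem_univ m)]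

end

end Groth.Agent.H58VA.Lift
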