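import Groth.Agent.H58VA.Nhd
import Groth.Agent.S12481
import Groth.Agent.Lib.PProj.OfProper
import Groth.Agent.Lib.Modules.AffineSections

/-!
# Relative very ampleness and projectivity from the fibres
-/

set_option autoImplicit false
set_option linter.style.haveILetI false
universe u

open CategoryTheory CategoryTheory.Limits AlgebraicGeometry TopologicalSpace

noncomputable section

namespace Groth.Agent.H58VA.Main

open Groth.Agent Groth.Agent.Lib Groth.Agent.Lib.PProj Groth.Agent.Lib.TensorMod
open Groth.Agent.Lib.TensorMod.Dual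

variable {X S : Scheme.{u}} (f : X ⟶ S) [IsProper f]

/-- Very ampleness relative to the members of an affine cover, with finitely generated sections, gives
projectivity over an arbitrary base. -/
theorem isProjective_of_cover (M : X.Modules) (hM : PicF.IsInvertible M)
    {κ : Type u} (O : κ → S.Opens) (hO : ∀ i, IsAffineOpen (O i)) (hcov : ∀ y, ∃ i, y ∈ O i)
    (hva : ∀ i, _root_.RelAmple.IsRelVeryAmplePn (f ∣_ O i) (M.restrict (f ⁻¹ᵁ O i).ι))
    (hfin : ∀ i, Module.Finite Γ(S, O i) Γ((Scheme.Modules.pushforward f).obj M, O i)) :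
    RelProj.IsProjective f := by
  classical
  haveI : M.IsQuasicoherent := QCohInv.isQCoh_of_isInvertible hM
  choose P e hxP he using Gen.isInvertible_iff.1 hM
  have hPc : ∀ x, ∃ a, x ∈ P a := fun x => ⟨x, hxP x⟩
  choose T m₀ hm₀ using fun i => exists_sys_of_veryAmple f M he hPc (hO i) (hva i)
  -- enlarge each family to a generating one
  have hgen : ∀ i, ∃ (n : ℕ) (G : Fin n → Γ(M, f ⁻¹ᵁ O i)) (ι : Fin (T i).n → Fin n),
      (∀ j, G (ι j) = m₀ i j) ∧ ∀ (v : Γ(M, f ⁻¹ᵁ O i)), Span.InSpan G le_rfl v := fun i => by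
    obtain ⟨s, hs⟩ := (hfin i).fg_top
    let g₀ : Fin s.card → Γ(M, f ⁻¹ᵁ O i) := fun j =>
      ((s.equivFin.symm j : s) : Γ((Scheme.Modules.pushforward f).obj M, O i))
    refine ⟨_, Fin.append (m₀ i) g₀, Fin.castAdd _, fun j => Fin.append_left _ _ j, fun v => ?_⟩
    suffices H : ∀ w : Γ((Scheme.Modules.pushforward f).obj M, O i), w ∈ Submodule.span Γ(S, O i) (s : Set _) →
        Span.InSpan (Fin.append (m₀ i) g₀) le_rfl (show Γ(M, f ⁻¹ᵁ O i) from w) from
      H v (hs ▸ Submodule.mem_top)
    intro w hw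
    induction hw using Submodule.span_induction with
    | mem w hw =>
      have h1 := Span.InSpan.mem (Fin.append (m₀ i) g₀) le_rfl (Fin.natAdd _ (s.equivFin ⟨w, hw⟩))
      rw [Span.rM_self, Fin.append_right] at h1
      have e1 : g₀ (s.equivFin ⟨w, hw⟩) = w :=
        congrArg Subtype.val (s.equivFin.symm_apply_apply ⟨w, hw⟩)
      exact e1 ▸ h1
    | zero => exact Span.InSpan.zero _ _
    | add _ _ _ _ ha hb => exact ha.add hb
    | smul r _ _ ha => exact ha.smul r
  choose n G ι hι hspan using hgen
  -- compatibility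
  have hG : ∀ i j, Span.Le (G i) (G j) := fun i j k y hy => by
    obtain ⟨h, hh, hyh⟩ := (hO j).exists_basicOpen_le (V := O i) ⟨y, hy.2⟩ hy.1
    refine ⟨S.basicOpen h, le_inf (S.basicOpen_le h) hh, hyh, ?_⟩
    set w := Span.rM f M (le_inf (S.basicOpen_le h) hh : S.basicOpen h ≤ O j ⊓ O i)
      (Span.rM f M inf_le_right (G i k)) with hw
    obtain ⟨e, x, hx⟩ := (Span.localizes (hO j) (f.app (O j) h)).ext'.exists_of_eq
      (Scheme.preimage_basicOpen f h) (f.preimage_mono (S.basicOpen_le h)) w
    have hx' : Span.rM f M (S.basicOpen_le h) x =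
        f.app (S.basicOpen h) (rX (S.basicOpen_le h) h) ^ e • w := by
      rw [← Span.resR_app]
      exact hx
    obtain ⟨v, hv⟩ : ∃ v : Γ(S, S.basicOpen h), v * rX (S.basicOpen_le h) h = 1 :=
      (S.toRingedSpace.isUnit_res_basicOpen h).exists_left_inv
    have h1 := ((hspan j x).res (S.basicOpen_le h)).smul (v ^ e)
    have hve : v ^ e * rX (S.basicOpen_le h) h ^ e = 1 := by rw [← mul_pow, hv, one_pow]
    rw [hx', ← map_pow, smul_smul, ← map_mul, hve, map_one, one_smul] at h1
    exact h1
  have hext : ∀ i, ∃ T' : Sys f P (O i), ∃ e : T'.n = n i, ∀ j, T'.c j = cv f M he (G i (Fin.cast e j)) :=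
    fun i => (T i).exists_extend hPc (fun j => cv f M he (G i j)) (ι i) (fun j => by
      show cv f M he (G i (ι i j)) = _
      rw [hι, hm₀])
      fun j k => prop2_cv f M he _ _
  choose T' hn hT' using hext
  refine (PData.isProjective {
    I := X
    P := P
    P_cover := hPc
    J := κ
    U := O
    affine := hO
    cover := hcov
    sys := T'
    compat := fun β γ j y hy hy' => ?_ })
  obtain ⟨W, hW, hyW, l, hl⟩ := hG γ β (Fin.cast (hn γ) j) y ⟨hy, hy'⟩
  refine ⟨W, hW.trans inf_le_left, hW.trans inf_le_right, hyW, fun k => l (Fin.cast (hn β) k), ?_⟩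
  have h1 := congrArg (cv f M he) hl
  rw [Span.rM_rM, cv_sum] at h1
  simp only [hT']
  refine (vres_cv f M he _ _).symm.trans (h1.trans ?_)
  funext a
  simp only [lin]
  refine (Equiv.sum_comp (finCongr (hn β)) _).symm.trans (Finset.sum_congr rfl fun k _ => ?_)
  exact congrArg (fun v : Vec f P W => _ * v a) (vres_cv f M he (hW.trans inf_le_left) _)

variable [Flat f] [LocallyOfFinitePresentation f] (L : X.Modules) (hL : PicF.IsInvertible L)
  (hva : ∀ y : S, _root_.RelAmple.IsRelVeryAmplePn (f.fiberToSpecResidueField y) (CohIII.fiberMod f L y))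
  (h1 : ∀ y : S, CohIII.fiberRank f L 1 y = 0)

include hL hva h1

/-- Fibrewise very ample without `H¹` is relatively very ample, over any base. -/
theorem isRelVeryAmple : RelProj.IsRelVeryAmple f L := by
  choose U hyU hU using fun y => Nhd.exists_veryAmplePn_nhd f L hL y (hva y) h1
  exact Groth.Agent.S12481.result f L hL U
    (top_le_iff.1 fun y _ => Opens.mem_iSup.2 ⟨y, hyU y⟩) fun y => hU y _ le_rfl

/-- ... and then `f` is projective if the direct image is locally free. -/
theorem isProjective (hfree : FlatMod.IsFinLocFree ((Scheme.Modules.pushforward f).obj L)) :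
    RelProj.IsProjective f := by
  choose U hyU hU using fun y => Nhd.exists_veryAmplePn_nhd f L hL y (hva y) h1
  choose V hV hyV hVU using fun y => exists_isAffineOpen_mem_and_subset (x := y) (hyU y)
  exact isProjective_of_cover f L hL V hV (fun y => ⟨y, hyV y⟩) (fun y => hU y _ (hVU y))
    fun y => by
      haveI : Coh.IsQCoh L := QCohInv.isQCoh_of_isInvertible hL
      haveI : ((Scheme.Modules.pushforward f).obj L).IsQuasicoherent :=
        QCohInv.isQCoh_of_isFinLocFree hfree
      exact (Modules.AffineSections.finite_projective_sections hfree (hV y)).1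

end Groth.Agent.H58VA.Main
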