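import Groth.Agent.Lib.PProj.OfProper

/-!
# Very ampleness in projective space over an affine base, glued from an affine cover
-/

set_option autoImplicit false
set_option linter.style.haveILetI false
universe u

open CategoryTheory CategoryTheory.Limits AlgebraicGeometry TopologicalSpace

noncomputable section

namespace Groth.Agent.H58VA.PnAffine

open Groth.Agent Groth.Agent.Lib Groth.Agent.Lib.PProj Groth.Agent.Lib.TensorMod
open Groth.Agent.Lib.TensorMod.Dual Groth.Agent.Lib.TensorMod.Gen
open Groth.Agent.Lib.ProjMor Groth.Agent.Lib.ProjMor.Sec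

variable {X S : Scheme.{u}} (f : X ⟶ S) [IsProper f]

theorem isRelVeryAmplePn_of_cover [IsAffine S] (M : X.Modules) (hM : PicF.IsInvertible M)
    (hloc : ∀ y : S, ∃ h : Γ(S, ⊤), y ∈ S.basicOpen h ∧
      _root_.RelAmple.IsRelVeryAmplePn (f ∣_ S.basicOpen h) (M.restrict (f ⁻¹ᵁ S.basicOpen h).ι)) :
    _root_.RelAmple.IsRelVeryAmplePn f M := by
  classical
  haveI : M.IsQuasicoherent := QCohInv.isQCoh_of_isInvertible hM
  choose h₀ hy₀ hva₀ using hloc
  obtain ⟨Y, hY⟩ := isCompact_univ.elim_finite_subcover (fun y : S => (S.basicOpen (h₀ y) : Set S))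
    (fun y => (S.basicOpen (h₀ y)).isOpen) fun y _ => Set.mem_iUnion.2 ⟨y, hy₀ y⟩
  let h : Y → Γ(S, ⊤) := fun i => h₀ i
  let D : Y → S.Opens := fun i => S.basicOpen (h i)
  choose P e hxP he using Gen.isInvertible_iff.1 hM
  have hPc : ∀ x, ∃ a, x ∈ P a := fun x => ⟨x, hxP x⟩
  choose T m hm using fun i : Y =>
    exists_sys_of_veryAmple f M he hPc ((isAffineOpen_top S).basicOpen (h i)) (hva₀ i)
  -- extend the coordinates to global sections supported on the basic open
  have hext : ∀ (i : Y) (j : Fin (T i).n), ∃ (E : ℕ) (t : Γ(M, ⊤)),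
      Span.rM f M (le_top : D i ≤ ⊤) (show Γ(M, f ⁻¹ᵁ ⊤) from t) =
        f.app (D i) (rX (le_top : D i ≤ ⊤) (h i)) ^ E • m i j ∧
      ∀ a (c : Γ(X, P a)), gl t (P a) = c • e a → X.basicOpen c ≤ f ⁻¹ᵁ D i := fun i j => by
    obtain ⟨E, x, hx⟩ := (Span.localizes (isAffineOpen_top S) (f.app ⊤ (h i))).ext'.exists_of_eq
      (Scheme.preimage_basicOpen f (h i)) (f.preimage_mono (S.basicOpen_le (h i))) (m i j)
    refine ⟨1 + E, (show Γ(M, ⊤) from f.app ⊤ (h i) • x), ?_, fun a c hc => ?_⟩
    · show Span.rM f M _ (f.app ⊤ (h i) • x) = _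
      rw [Span.rM_smul, pow_add, pow_one, mul_smul]
      refine congrArg (f.app (D i) (rX _ (h i)) • ·) ?_
      refine Eq.trans hx ?_
      rw [← Span.resR_app]
    · obtain ⟨c', hc'⟩ := Ample.GenLocus.exists_coord (he a) (gl (show Γ(M, ⊤) from x) (P a))
      have h2 : gl (show Γ(M, ⊤) from f.app ⊤ (h i) • x) (P a) =
          (rX (le_top : P a ≤ ⊤) (f.app ⊤ (h i)) * c') • e a := by
        rw [mul_smul, ← hc']
        exact rs_smul M le_top (f.app ⊤ (h i)) x
      have hcc : c = rX (le_top : P a ≤ ⊤) (f.app ⊤ (h i)) * c' := by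
        refine (he a (P a) le_rfl).1 ?_
        simp only [rs_self]
        exact hc.symm.trans h2
      rw [hcc, Scheme.basicOpen_mul]
      exact inf_le_left.trans ((basicOpen_rX _ _).le.trans (inf_le_right.trans (Scheme.preimage_basicOpen f (h i)).ge))
  choose E t ht hsupp using hext
  have hunit : ∀ (i : Y) (k : ℕ), IsUnit (f.app (D i) (rX (le_top : D i ≤ ⊤) (h i)) ^ k) := fun i k =>
    ((isUnit_rX (le_top : D i ≤ ⊤) (le_refl (S.basicOpen (h i)))).map (f.app (D i)).hom).pow k
  -- the loci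
  have hlocus : ∀ (i : Y) (j : Fin (T i).n), locus (t i j) = (T i).L j := fun i j => by
    have key : ∀ a, locus (t i j) ⊓ P a = (T i).L j ⊓ P a := fun a => by
      obtain ⟨c, hc⟩ := Ample.GenLocus.exists_coord (he a) (gl (t i j) (P a))
      rw [locus_inf_eq (he a) hc, (T i).L_inf, hm]
      have hle : piece f P a (D i) ≤ P a := inf_le_left
      have hrc : rX hle c = rX (inf_le_right : piece f P a (D i) ≤ f ⁻¹ᵁ D i)
          (f.app (D i) (rX (le_top : D i ≤ ⊤) (h i)) ^ E i j) * cv f M he (m i j) a := by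
        refine ((he a).res hle _ le_rfl).1 ?_
        simp only [rs_self]
        rw [mul_smul, ← cv_spec]
        have h1 := congrArg (rs M (inf_le_right : piece f P a (D i) ≤ f ⁻¹ᵁ D i)) (ht i j)
        rw [rs_smul] at h1
        refine Eq.trans ?_ h1
        refine Eq.trans ?_ (rs_rs M _ _ _).symm
        have h2 := congrArg (rs M hle) hc
        rw [rs_smul, gl, rs_rs] at h2
        exact h2.symm
      have hb : X.basicOpen c = X.basicOpen (rX hle c) := by
        rw [basicOpen_rX]
        exact (inf_eq_right.2 (le_inf (X.basicOpen_le c) (hsupp i j a c hc))).symm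
      rw [hb, hrc, Scheme.basicOpen_mul]
      refine inf_eq_right.2 ?_
      rw [Scheme.basicOpen_of_isUnit X ((hunit i (E i j)).map _)]
      exact X.basicOpen_le _
    refine le_antisymm (fun x hx => ?_) (fun x hx => ?_)
    · obtain ⟨a, ha⟩ := hPc x
      exact ((key a).le ⟨hx, ha⟩).1
    · obtain ⟨a, ha⟩ := hPc x
      exact ((key a).ge ⟨hx, ha⟩).1
  -- a common exponent is not needed: rescale inside the ratios
  let κ := Σ i : Y, Fin (T i).n
  let N := Fintype.card κ
  let w : Fin (N + 1) ≃ Option κ := (Fintype.equivFinOfCardEq (by simp [N])).symm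
  let tt : Fin (N + 1) → ProjUP.Γm M := fun q => (w q).elim 0 fun p => t p.1 p.2
  let VV : Fin (N + 1) → S.Opens := fun q => (w q).elim ⊤ fun p => D p.1
  refine Embed.isRelVeryAmplePn_of_sections f M hM tt (Set.range fun p : κ => w.symm (some p))
    (fun x => ?_) ?_ VV ?_ ?_ ?_
  · obtain ⟨i, hi⟩ : ∃ i : Y, f x ∈ D i := by
      obtain ⟨y, hy, hxy⟩ := Set.mem_iUnion₂.1 (hY (Set.mem_univ (f x)))
      exact ⟨⟨y, hy⟩, hxy⟩
    obtain ⟨j, hj⟩ := Opens.mem_iSup.1 ((T i).cover hi)
    refine ⟨w.symm (some ⟨i, j⟩), ⟨_, rfl⟩, ?_⟩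
    simp only [tt, Equiv.apply_symm_apply, Option.elim_some]
    exact (hlocus i j).ge hj
  · rintro _ ⟨⟨i, j⟩, rfl⟩
    simp only [tt, Equiv.apply_symm_apply, Option.elim_some, hlocus]
    exact (T i).affine j
  · rintro _ ⟨⟨i, j⟩, rfl⟩
    simp only [VV, Equiv.apply_symm_apply, Option.elim_some]
    exact (isAffineOpen_top S).basicOpen (h i)
  · rintro _ ⟨⟨i, j⟩, rfl⟩
    simp only [tt, VV, Equiv.apply_symm_apply, Option.elim_some, hlocus]
    exact (T i).L_le j
  · rintro q ⟨⟨i, j⟩, hq⟩
    subst hq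
    have key : ∀ (L : X.Opens) (V : S.Opens) (hL : L ≤ f ⁻¹ᵁ V) (s : ProjUP.Γm M), s = t i j →
        L = (T i).L j → V = D i → ∀ z : Γ(X, L), z ∈ Subring.closure (Set.range (f.appLE V L hL).hom ∪
          {a | ∃ k, gl (tt k) L = a • gl s L}) := by
      rintro L V hL s rfl rfl rfl z
      refine (Subring.closure_le).2 ?_ (((T i).gen j).ge (Subring.mem_top z))
      rintro _ (⟨b, rfl⟩ | ⟨k, rfl⟩)
      · exact Subring.subset_closure (Or.inl ⟨b, rfl⟩)
      · -- the ratio of `k` and `j`, up to units from the base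
        have hL' : (T i).L j ≤ f ⁻¹ᵁ D i := (T i).L_le j
        have hu : rs M hL' (m i k) = (T i).u j k • rs M hL' (m i j) := by
          refine TopCat.Sheaf.eq_of_locally_eq' (Coh.toAb M) (fun a => (T i).L j ⊓ P a) ((T i).L j)
            (fun a => homOfLE inf_le_left) (fun x hx => ?_) _ _ fun a => ?_
          · obtain ⟨a, ha⟩ := hPc x
            exact Opens.mem_iSup.2 ⟨a, hx, ha⟩
          · show rs M _ (rs M hL' (m i k)) = rs M _ ((T i).u j k • rs M hL' (m i j))
            have hp := (T i).le_piece j a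
            rw [rs_smul, rs_rs, rs_rs, cv_rs f M he (m i k) a _ hp, cv_rs f M he (m i j) a _ hp,
              smul_smul, ← hm, ← hm]
            exact congrArg (· • _) ((T i).rel' j k a)
        have hgl : ∀ l, gl (t i l) ((T i).L j) = rX hL' (f.app (D i) (rX (le_top : D i ≤ ⊤) (h i)) ^ E i l) •
            rs M hL' (m i l) := fun l => by
          have h1 := congrArg (rs M hL') (ht i l)
          rw [rs_smul] at h1
          exact (rs_rs M _ _ _).symm.trans h1
        set A := fun l => rX hL' (f.app (D i) (rX (le_top : D i ≤ ⊤) (h i)) ^ E i l) with hA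
        obtain ⟨Aj, hAj⟩ := ((hunit i (E i j)).map (rX hL')).exists_left_inv
        have hmem : (A k * (T i).u j k * Aj) ∈ {a | ∃ q, gl (tt q) ((T i).L j) = a • gl (t i j) ((T i).L j)} := by
          refine ⟨w.symm (some ⟨i, k⟩), ?_⟩
          simp only [tt, Equiv.apply_symm_apply, Option.elim_some]
          rw [hgl, hgl, hu, smul_smul, smul_smul]
          refine congrArg (· • _) ?_
          rw [mul_assoc _ Aj, hAj, mul_one]
        have hbase : ∀ r : Γ(S, D i), rX hL' (f.app (D i) r) = f.appLE (D i) ((T i).L j) hL r := fun r => rfl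
        obtain ⟨v, hv⟩ : ∃ v : Γ(S, D i), v * rX (le_top : D i ≤ ⊤) (h i) = 1 :=
          (S.toRingedSpace.isUnit_res_basicOpen (h i)).exists_left_inv
        set r := rX (le_top : D i ≤ ⊤) (h i) with hr
        let B := v ^ E i k * r ^ E i j
        have hBA : f.appLE (D i) ((T i).L j) hL B * A k = A j := by
          simp only [hA, B]
          rw [← map_pow (f.app (D i)).hom, ← map_pow (f.app (D i)).hom]
          show f.appLE (D i) ((T i).L j) hL (v ^ E i k * r ^ E i j) * f.appLE (D i) ((T i).L j) hL (r ^ E i k) =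
            f.appLE (D i) ((T i).L j) hL (r ^ E i j)
          rw [← map_mul]
          refine congrArg _ ?_
          rw [mul_right_comm, ← mul_pow, hv, one_pow, one_mul]
        have : (T i).u j k = f.appLE (D i) ((T i).L j) hL B * (A k * (T i).u j k * Aj) := by
          calc (T i).u j k = (Aj * A j) * (T i).u j k := by rw [hAj, one_mul]
            _ = _ := by rw [← hBA]; ring
        rw [this]
        exact mul_mem (Subring.subset_closure (Or.inl ⟨B, rfl⟩)) (Subring.subset_closure (Or.inr hmem))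
    exact key _ _ _ _ (by simp [tt]) (by simp [tt, hlocus]) (by simp [VV])

end Groth.Agent.H58VA.PnAffine
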