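import Groth.Agent.H58VA.GrTwistOne
import Groth.Prelude.Def_RelProj2

/-!
# Generators of the twisting sheaves of a relative Proj, read in the charts
-/

noncomputable section

set_option autoImplicit false
universe u

open CategoryTheory CategoryTheory.Limits AlgebraicGeometry Opposite TopologicalSpace
open scoped HomogeneousIdeal

namespace Groth.Agent.H58VA.RelLocus

open Groth.Agent.Lib TensorMod TensorMod.Dual TensorMod.Gen TensorMod.HomGlue Ample.GenLocus

variable {S P : Scheme.{u}} {𝒮 : RelProj.QCGrAlg S}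

/-- Degree-`d` elements cover when the algebra is generated in degree one. -/
theorem exists_notMem_of_isGenDegOne (hgen : 𝒮.IsGenDegOne) {U : S.Opens} (hU : IsAffineOpen U) (d : ℕ)
    (x : ProjectiveSpectrum (𝒮.deg U hU)) : ∃ g ∈ 𝒮.deg U hU d, g ∉ x.asHomogeneousIdeal := by
  classical
  suffices h : ∃ g ∈ 𝒮.deg U hU 1, g ∉ x.asHomogeneousIdeal by
    obtain ⟨g, hg, hgx⟩ := h
    exact ⟨g ^ d, by simpa using SetLike.pow_mem_graded d hg, fun h => hgx (x.isPrime.mem_of_pow_mem d h)⟩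
  by_contra h
  push Not at h
  let I := x.asHomogeneousIdeal.toIdeal
  let T : Subring (𝒮.presheaf.obj (op U)) :=
    { carrier := {a | ∃ b ∈ 𝒮.deg U hU 0, a - b ∈ I}
      mul_mem' := by
        rintro a a' ⟨b, hb, h⟩ ⟨b', hb', h'⟩
        refine ⟨b * b', by simpa only [add_zero] using SetLike.mul_mem_graded hb hb', ?_⟩
        have e : a * a' - b * b' = a * (a' - b') + (a - b) * b' := by ring
        rw [e]
        exact add_mem (I.mul_mem_left _ h') (I.mul_mem_right _ h)
      one_mem' := ⟨1, SetLike.GradedOne.one_mem, by simp [I]⟩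
      add_mem' := by
        rintro a a' ⟨b, hb, h⟩ ⟨b', hb', h'⟩
        exact ⟨b + b', add_mem hb hb', by rw [add_sub_add_comm]; exact add_mem h h'⟩
      zero_mem' := ⟨0, zero_mem _, by simp [I]⟩
      neg_mem' := by
        rintro a ⟨b, hb, h⟩
        exact ⟨-b, neg_mem hb, by rw [← neg_sub']; exact neg_mem h⟩ }
  have hT : (⊤ : Subring (𝒮.presheaf.obj (op U))) ≤ T := by
    rw [← hgen U hU, Subring.closure_le]
    rintro a (ha | ha)
    · exact ⟨a, ha, by rw [sub_self]; exact zero_mem _⟩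
    · exact ⟨0, zero_mem _, by rw [sub_zero]; exact h a ha⟩
  refine x.not_irrelevant_le fun z hz => ?_
  obtain ⟨b, hb, hzb⟩ := hT (Subring.mem_top z)
  have hz0 : (DirectSum.decompose (𝒮.deg U hU) z 0 : 𝒮.presheaf.obj (op U)) = 0 := hz
  have h0 := x.asHomogeneousIdeal.isHomogeneous 0 hzb
  rw [DirectSum.decompose_sub, DirectSum.sub_apply, AddSubgroupClass.coe_sub, hz0,
    DirectSum.decompose_of_mem_same _ hb, zero_sub] at h0
  have h1 := sub_mem hzb (show -b ∈ I from h0)
  simpa only [sub_neg_eq_add, sub_add_cancel, I, HomogeneousIdeal.mem_iff] using h1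

variable {n : ℤ} {p : P ⟶ S}
  {chart : ∀ (U : S.Opens) (hU : IsAffineOpen U), (((p ⁻¹ᵁ U : P.Opens) : Scheme.{u}) ≅ Proj (𝒮.deg U hU))}
  {L : P.Modules}
  {lam : ∀ (U : S.Opens) (hU : IsAffineOpen U),
      L ⟶ (Scheme.Modules.pushforward (RelProj.emb p chart U hU)).obj (GrTwist.twist (𝒮.deg U hU) n)}

theorem opensRange_emb (U : S.Opens) (hU : IsAffineOpen U) :
    (RelProj.emb p chart U hU).opensRange = p ⁻¹ᵁ U := by
  change ((chart U hU).inv ≫ (p ⁻¹ᵁ U).ι).opensRange = _
  rw [Scheme.Hom.opensRange_comp_of_isIso, Scheme.Opens.opensRange_ι]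

/-- Generators correspond under the chart identification. -/
theorem isGen_iff (hL : RelProj.IsRelTwist 𝒮 p chart n L lam) {U : S.Opens} (hU : IsAffineOpen U)
    {W : P.Opens} (hW : W ≤ p ⁻¹ᵁ U) (e : Γ(L, W)) :
    IsGen L W e ↔ IsGen (GrTwist.twist (𝒮.deg U hU) n) (RelProj.emb p chart U hU ⁻¹ᵁ W)
      (show Γ(GrTwist.twist (𝒮.deg U hU) n, RelProj.emb p chart U hU ⁻¹ᵁ W) from (lam U hU).app W e) := by
  let ε := RelProj.emb p chart U hU
  have key : ∀ (V : P.Opens) (h : V ≤ W),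
      Function.Bijective (fun a : Γ(P, V) => a • rs L h e) ↔
      Function.Bijective (fun a : Γ(Proj (𝒮.deg U hU), ε ⁻¹ᵁ V) =>
        a • rs (GrTwist.twist (𝒮.deg U hU) n) (ε.preimage_mono h)
          (show Γ(GrTwist.twist (𝒮.deg U hU) n, ε ⁻¹ᵁ W) from (lam U hU).app W e)) := by
    intro V h
    have hV : V ≤ ε.opensRange := by rw [opensRange_emb]; exact h.trans hW
    have hiso : IsIso (ε.app V) := ε.isIso_app V hV
    have hφ : Function.Bijective (ε.app V) := ConcreteCategory.bijective_of_isIso (ε.app V)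
    have e1 : (fun a : Γ(Proj (𝒮.deg U hU), ε ⁻¹ᵁ V) => a • rs (GrTwist.twist (𝒮.deg U hU) n) (ε.preimage_mono h)
          (show Γ(GrTwist.twist (𝒮.deg U hU) n, ε ⁻¹ᵁ W) from (lam U hU).app W e)) ∘ ε.app V =
        ((lam U hU).app V : _ → _) ∘ fun a : Γ(P, V) => a • rs L h e := by
      funext a
      simp only [Function.comp_apply]
      rw [Scheme.Modules.Hom.app_smul, ← rs_app]
      rfl
    exact (Function.Bijective.of_comp_iff' (hL.bijective U hU V (h.trans hW)) _).symm.trans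
      ((Iff.of_eq (congrArg Function.Bijective e1.symm)).trans (Function.Bijective.of_comp_iff _ hφ))
  refine ⟨fun he V' hV' => ?_, fun he V h => (key V h).2 (he _ (ε.preimage_mono h))⟩
  have h : ε ''ᵁ V' ≤ W := by
    rintro x ⟨z, hz, rfl⟩
    exact hV' hz
  have hb := (key (ε ''ᵁ V') h).1 (he _ h)
  have transport : ∀ (V'' : (Proj (𝒮.deg U hU)).Opens) (_ : V'' = V') (h'' : V'' ≤ ε ⁻¹ᵁ W),
      (Function.Bijective fun a : Γ(Proj (𝒮.deg U hU), V'') => a • rs (GrTwist.twist (𝒮.deg U hU) n) h''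
          (show Γ(GrTwist.twist (𝒮.deg U hU) n, ε ⁻¹ᵁ W) from (lam U hU).app W e)) →
      Function.Bijective fun a : Γ(Proj (𝒮.deg U hU), V') => a • rs (GrTwist.twist (𝒮.deg U hU) n) hV'
          (show Γ(GrTwist.twist (𝒮.deg U hU) n, ε ⁻¹ᵁ W) from (lam U hU).app W e) := by
    intro V'' hV'' h'' hbij
    subst hV''
    exact hbij
  exact transport _ (ε.preimage_image_eq V') _ hb

end Groth.Agent.H58VA.RelLocus
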