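import Groth.Agent.H58VA.GrTwistOne
import Groth.Agent.Lib.QCAlgSub.Basic
import Groth.Agent.Lib.Ample.RelAmple
import Groth.Prelude.Def_RelProj2

/-!
# Relatively very ample modules are relatively ample
-/

noncomputable section

set_option autoImplicit false
universe u

open CategoryTheory CategoryTheory.Limits AlgebraicGeometry Opposite TopologicalSpace
open scoped HomogeneousIdeal

namespace Groth.Agent.H58VA.RelVA

open Groth.Agent.Lib

variable {X S P : Scheme.{u}} {𝒮 : RelProj.QCGrAlg S}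

/-- The symmetric algebra is generated by the functions and the sections of `E`. -/
theorem adj_eq_top_of_isSymAlg {E : S.Modules} [E.IsQuasicoherent] {B : RelSpec.QCAlg S}
    {j : E ⟶ B.toModule} (h : RelSpec.IsSymAlg E B j) {U : S.Opens} (hU : IsAffineOpen U) :
    QCAlgSub.Basic.adj B j U = ⊤ := by
  let φ : E ⟶ (QCAlgSub.Basic.subAlg B j).toModule :=
    ⟨PresheafOfModules.homMk
      { app := fun V => AddCommGrpCat.ofHom
          { toFun := fun e => ⟨j.app V.unop e,
              QCAlgSub.Basic.adj_le_loc B j _ (QCAlgSub.Basic.jm_mem_adj B j _ e)⟩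
            map_zero' := Subtype.ext (map_zero (j.app V.unop).hom)
            map_add' := fun a b => Subtype.ext (map_add (j.app V.unop).hom a b) }
        naturality := fun V W i => by
          ext e
          refine Subtype.ext ?_
          exact (PresheafOfModules.naturality_apply j.val i e) }
      fun V r m => Subtype.ext (j.app_smul r m)⟩
  obtain ⟨ψ, hψ, -⟩ := h (QCAlgSub.Basic.subAlg B j) φ
  obtain ⟨χ, -, huniq⟩ := h B j
  have h1 : ψ ≫ QCAlgSub.Basic.incl B j = χ := huniq _ (by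
    apply Scheme.Modules.hom_ext
    intro V
    ext e
    exact congrArg Subtype.val (congrArg (fun f : E ⟶ _ => f.app V e) hψ))
  have h2 : 𝟙 B = χ := huniq _ (by
    apply Scheme.Modules.hom_ext
    intro V
    ext e
    rfl)
  refine eq_top_iff.2 fun b _ => ?_
  rw [← QCAlgSub.Basic.loc_eq_adj B j hU]
  have h3 : ((ψ ≫ QCAlgSub.Basic.incl B j).hom.app (op U)).hom b = b := by
    rw [h1, ← h2]; rfl
  rw [← h3]
  exact ((ψ.hom.app (op U)).hom b).2

/-- Degree-one elements cover the Proj of a graded symmetric algebra. -/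
theorem exists_degOne_notMem {E : S.Modules} [E.IsQuasicoherent] {j : E ⟶ 𝒮.toModule}
    (hS : RelProj.IsGrSymAlg E 𝒮 j) {U : S.Opens} (hU : IsAffineOpen U)
    (x : ProjectiveSpectrum (𝒮.deg U hU)) :
    ∃ g ∈ 𝒮.deg U hU 1, g ∉ x.asHomogeneousIdeal := by
  classical
  by_contra h
  push Not at h
  let I := x.asHomogeneousIdeal.toIdeal
  let T : Subring (𝒮.presheaf.obj (op U)) :=
    { carrier := {a | ∃ b ∈ 𝒮.deg U hU 0, a - b ∈ I}
      mul_mem' := by
        rintro a a' ⟨b, hb, h⟩ ⟨b', hb', h'⟩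
        refine ⟨b * b', by simpa only [add_zero] using SetLike.mul_mem_graded hb hb', ?_⟩
        have e : a * a' - b * b' = a * (a' - b') + (a - b) * b' := by ring
        rw [e]
        exact add_mem (I.mul_mem_left _ h') (I.mul_mem_right _ h)
      one_mem' := ⟨1, SetLike.GradedOne.one_mem, by simp [I]⟩
      add_mem' := by
        rintro a a' ⟨b, hb, h⟩ ⟨b', hb', h'⟩
        exact ⟨b + b', add_mem hb hb', by rw [add_sub_add_comm]; exact add_mem h h'⟩
      zero_mem' := ⟨0, zero_mem _, by simp [I]⟩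
      neg_mem' := by
        rintro a ⟨b, hb, h⟩
        exact ⟨-b, neg_mem hb, by rw [← neg_sub']; exact neg_mem h⟩ }
  have hT : QCAlgSub.Basic.adj 𝒮.toQCAlg j U ≤ T := by
    refine Subring.closure_le.2 (Set.union_subset ?_ ?_)
    · rintro _ ⟨r, rfl⟩
      refine ⟨_, 𝒮.str_mem U hU r, ?_⟩
      rw [sub_self]
      exact zero_mem _
    · rintro _ ⟨e, rfl⟩
      refine ⟨0, zero_mem _, ?_⟩
      rw [sub_zero]
      exact h _ (hS.2 U hU e)
  rw [adj_eq_top_of_isSymAlg hS.1 hU] at hT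
  refine x.not_irrelevant_le fun z hz => ?_
  obtain ⟨b, hb, hzb⟩ := hT (Subring.mem_top z)
  have hz0 : (DirectSum.decompose (𝒮.deg U hU) z 0 : 𝒮.presheaf.obj (op U)) = 0 := hz
  have h0 := x.asHomogeneousIdeal.isHomogeneous 0 hzb
  rw [DirectSum.decompose_sub, DirectSum.sub_apply, AddSubgroupClass.coe_sub, hz0,
    DirectSum.decompose_of_mem_same _ hb, zero_sub] at h0
  have h1 := sub_mem hzb (show -b ∈ I from h0)
  simpa only [sub_neg_eq_add, sub_add_cancel, I, HomogeneousIdeal.mem_iff] using h1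

variable {p : P ⟶ S}
  {chart : ∀ (U : S.Opens) (hU : IsAffineOpen U), (((p ⁻¹ᵁ U : P.Opens) : Scheme.{u}) ≅ Proj (𝒮.deg U hU))}
  {O1 : P.Modules}
  {lam : ∀ (U : S.Opens) (hU : IsAffineOpen U),
      O1 ⟶ (Scheme.Modules.pushforward (RelProj.emb p chart U hU)).obj (GrTwist.twist (𝒮.deg U hU) 1)}

/-- Over a chart the fundamental sheaf is `O(1)`. -/
theorem pullback_emb_iso (hO : RelProj.IsRelTwist 𝒮 p chart 1 O1 lam) {U : S.Opens} (hU : IsAffineOpen U) :
    Nonempty ((Scheme.Modules.pullback (RelProj.emb p chart U hU)).obj O1 ≅ GrTwist.twist (𝒮.deg U hU) 1) := by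
  let e := RelProj.emb p chart U hU
  have hle : ∀ W : (Proj (𝒮.deg U hU)).Opens, e ''ᵁ W ≤ p ⁻¹ᵁ U := by
    intro W x hx
    obtain ⟨z, -, rfl⟩ := hx
    exact ((chart U hU).inv z).2
  have h1 : IsIso ((Scheme.Modules.restrictFunctor e).map (lam U hU)) :=
    (Scheme.Modules.Hom.isIso_iff_isIso_app (φ := (Scheme.Modules.restrictFunctor e).map (lam U hU))).2 fun W =>
      (ConcreteCategory.isIso_iff_bijective _).2 (hO.bijective U hU (e ''ᵁ W) (hle W))
  exact ⟨(Scheme.Modules.restrictFunctorIsoPullback e).symm.app O1 ≪≫ asIso ((Scheme.Modules.restrictFunctor e).map (lam U hU)) ≪≫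
    (Scheme.Modules.restrictFunctorAdjCounitIso e).app _⟩

theorem isRelAmple_of_isRelVeryAmple {f : X ⟶ S} [QuasiCompact f] {L : X.Modules}
    (h : RelProj.IsRelVeryAmple f L) : _root_.RelAmple.IsRelAmple f L := by
  obtain ⟨E, hE, 𝒮, j, hS, P, p, chart, hP, O1, lam, hO, i, hi, hcomp, ⟨φ⟩⟩ := h
  have : E.IsQuasicoherent := hE
  refine (Ample.RelAmple.isRelAmple_iff f).2 ⟨‹_›, fun V hV => ?_⟩
  have : IsAffine (V : Scheme.{u}) := hV
  have : CompactSpace (f ⁻¹ᵁ V : Scheme.{u}) := QuasiCompact.compactSpace_of_compactSpace (f ∣_ V)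
  have hcov := exists_degOne_notMem hS hV
  have hle : f ⁻¹ᵁ V ≤ i ⁻¹ᵁ (p ⁻¹ᵁ V) := le_of_eq (by rw [← hcomp]; rfl)
  let k0 := i.resLE (p ⁻¹ᵁ V) (f ⁻¹ᵁ V) hle
  have : IsImmersion k0 := by
    have : IsImmersion (k0 ≫ (p ⁻¹ᵁ V).ι) := by rw [Scheme.Hom.resLE_comp_ι]; infer_instance
    exact IsImmersion.of_comp k0 (p ⁻¹ᵁ V).ι
  let k := k0 ≫ (chart V hV).hom
  have : QuasiSeparatedSpace (Proj (𝒮.deg V hV)) :=
    quasiSeparatedSpace_of_quasiSeparated (Proj.toSpecZero (𝒮.deg V hV))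
  have : QuasiCompact k := quasiCompact_of_compactSpace k
  have hkq := Ample.RelAmple.isQuasiAffine_of_isImmersion k
  obtain ⟨ε⟩ := pullback_emb_iso hO hV
  let M := GrTwist.twist (𝒮.deg V hV) 1
  have hM : PicF.IsInvertible M := GrTwistOne.isInvertible_twist (d := 1) hcov
  have e : k ≫ RelProj.emb p chart V hV = (f ⁻¹ᵁ V).ι ≫ i := by
    simp only [k, k0, RelProj.emb, Category.assoc, Iso.hom_inv_id_assoc, Scheme.Hom.resLE_comp_ι]
  have key : (Scheme.Modules.pullback k).obj M ≅ (Scheme.Modules.pullback (f ⁻¹ᵁ V).ι).obj L :=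
    (Scheme.Modules.pullback k).mapIso ε.symm ≪≫
      (Scheme.Modules.pullbackComp k (RelProj.emb p chart V hV)).app O1 ≪≫
      (Scheme.Modules.pullbackCongr e).app O1 ≪≫
      ((Scheme.Modules.pullbackComp (f ⁻¹ᵁ V).ι i).app O1).symm ≪≫
      (Scheme.Modules.pullback (f ⁻¹ᵁ V).ι).mapIso φ.symm
  exact Ample.Pow.isAmple_of_iso key (Ample.Pullback.isAmple_of_qAffAt (PicLoc.isInvertible_pullback k hM)
    fun y => Ample.Pullback.qAffAt_pullback k hkq hM (GrTwistOne.affineAt_twist (d := 1) hcov one_pos _))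

end Groth.Agent.H58VA.RelVA
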